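import Mathlib

/-!
# Mayer–Vietoris from a short exact sequence `0 → W → P ⊞ Q → X → 0`

Purely in an abelian category: if graded groups `HU, HV, HW` are identified with `Ext(P, F)`,
`Ext(Q, F)`, `Ext(W, F)`, the sequence with maps induced by the components is exact.
-/

set_option autoImplicit false

universe w v u

open CategoryTheory CategoryTheory.Limits

noncomputable section

namespace Groth.Agent.EtMV.Alg

variable {C : Type u} [Category.{v} C] [Abelian C] [HasExt.{w} C]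
  {W P Q Z F : C} {a : W ⟶ P} {b : W ⟶ Q} {c : P ⟶ Z} {d : Q ⟶ Z}
  {h : biprod.lift a (-b) ≫ biprod.desc c d = 0}
  (hS : (ShortComplex.mk (biprod.lift a (-b)) (biprod.desc c d) h).ShortExact)
  {HU HV HW : ℕ → Type w} [∀ n, AddCommGroup (HU n)] [∀ n, AddCommGroup (HV n)]
  [∀ n, AddCommGroup (HW n)]
  (eU : ∀ n, HU n →+ Abelian.Ext P F n) (eV : ∀ n, HV n →+ Abelian.Ext Q F n)
  (eW : ∀ n, HW n →+ Abelian.Ext W F n)
  (hU : ∀ n, Function.Bijective (eU n)) (hV : ∀ n, Function.Bijective (eV n))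
  (hW : ∀ n, Function.Bijective (eW n))
  (rU : ∀ n, Abelian.Ext Z F n →+ HU n) (rV : ∀ n, Abelian.Ext Z F n →+ HV n)
  (sU : ∀ n, HU n →+ HW n) (sV : ∀ n, HV n →+ HW n)
  (hrU : ∀ n x, eU n (rU n x) = (Abelian.Ext.mk₀ c).comp x (zero_add n))
  (hrV : ∀ n x, eV n (rV n x) = (Abelian.Ext.mk₀ d).comp x (zero_add n))
  (hsU : ∀ n x, eW n (sU n x) = (Abelian.Ext.mk₀ a).comp (eU n x) (zero_add n))
  (hsV : ∀ n x, eW n (sV n x) = (Abelian.Ext.mk₀ b).comp (eV n x) (zero_add n))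

/-- Classes of `P ⊞ Q` from pairs. -/
def pairE (n : ℕ) (p : HU n × HV n) : Abelian.Ext (P ⊞ Q) F n :=
  (Abelian.Ext.mk₀ biprod.fst).comp (eU n p.1) (zero_add n) +
    (Abelian.Ext.mk₀ biprod.snd).comp (eV n p.2) (zero_add n)

omit [∀ n, AddCommGroup (HW n)] in
theorem inl_pairE (n : ℕ) (p) : (Abelian.Ext.mk₀ (biprod.inl : P ⟶ P ⊞ Q)).comp
    (pairE eU eV n p) (zero_add n) = eU n p.1 := by
  simp [pairE, Abelian.Ext.comp_add, Abelian.Ext.mk₀_comp_mk₀_assoc]

omit [∀ n, AddCommGroup (HW n)] in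
theorem inr_pairE (n : ℕ) (p) : (Abelian.Ext.mk₀ (biprod.inr : Q ⟶ P ⊞ Q)).comp
    (pairE eU eV n p) (zero_add n) = eV n p.2 := by
  simp [pairE, Abelian.Ext.comp_add, Abelian.Ext.mk₀_comp_mk₀_assoc]

include hU hV in
omit [∀ n, AddCommGroup (HW n)] in
theorem pairE_surjective (n : ℕ) : Function.Surjective (pairE eU eV n) := by
  intro y
  obtain ⟨s, hs⟩ := (hU n).2 ((Abelian.Ext.mk₀ biprod.inl).comp y (zero_add n))
  obtain ⟨t, ht⟩ := (hV n).2 ((Abelian.Ext.mk₀ biprod.inr).comp y (zero_add n))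
  exact ⟨(s, t), Abelian.Ext.biprod_ext ((inl_pairE eU eV n _).trans hs)
    ((inr_pairE eU eV n _).trans ht)⟩

include hU hV in
omit [∀ n, AddCommGroup (HW n)] in
theorem pairE_injective (n : ℕ) : Function.Injective (pairE eU eV n) := by
  intro p q h
  refine Prod.ext ((hU n).1 ?_) ((hV n).1 ?_)
  · rw [← inl_pairE eU eV, ← inl_pairE eU eV, h]
  · rw [← inr_pairE eU eV, ← inr_pairE eU eV, h]

include hU hV in
omit [∀ n, AddCommGroup (HW n)] in
theorem pairE_eq_zero {n : ℕ} (p) : pairE eU eV n p = 0 ↔ p = 0 := by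
  refine ⟨fun h => pairE_injective eU eV hU hV n (h.trans ?_), fun h => ?_⟩
  · simp [pairE]
  · subst h; simp [pairE]

include hrU hrV in
omit [∀ n, AddCommGroup (HW n)] in
theorem g_comp (n : ℕ) (x : Abelian.Ext Z F n) :
    (Abelian.Ext.mk₀ (biprod.desc c d)).comp x (zero_add n) = pairE eU eV n (rU n x, rV n x) := by
  refine Abelian.Ext.biprod_ext ?_ ?_
  · rw [inl_pairE, hrU]
    simp [Abelian.Ext.mk₀_comp_mk₀_assoc]
  · rw [inr_pairE, hrV]
    simp [Abelian.Ext.mk₀_comp_mk₀_assoc]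

include hsU hsV in
theorem f_comp (n : ℕ) (p : HU n × HV n) :
    (Abelian.Ext.mk₀ (biprod.lift a (-b))).comp (pairE eU eV n p) (zero_add n) =
      eW n (sU n p.1 - sV n p.2) := by
  rw [biprod.lift_eq, Abelian.Ext.mk₀_add, Abelian.Ext.add_comp,
    ← Abelian.Ext.mk₀_comp_mk₀_assoc, ← Abelian.Ext.mk₀_comp_mk₀_assoc, inl_pairE, inr_pairE,
    Abelian.Ext.mk₀_neg, Abelian.Ext.neg_comp, map_sub, hsU, hsV, sub_eq_add_neg]

include hS hU hV hW hrU hrV hsU hsV in
theorem main : ∃ δ : ∀ n : ℕ, HW n →+ Abelian.Ext Z F (n + 1),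
      (AddMonoidHom.prod (rU 0) (rV 0)).ker = ⊥ ∧
      (∀ n : ℕ, (AddMonoidHom.prod (rU (n + 1)) (rV (n + 1))).ker = (δ n).range) ∧
      (∀ n : ℕ, ((sU n).comp (AddMonoidHom.fst _ _) - (sV n).comp (AddMonoidHom.snd _ _)).ker =
        (AddMonoidHom.prod (rU n) (rV n)).range) ∧
      (∀ n : ℕ, (δ n).ker =
        ((sU n).comp (AddMonoidHom.fst _ _) - (sV n).comp (AddMonoidHom.snd _ _)).range) := by
  refine ⟨fun n => AddMonoidHom.mk' (fun z => hS.extClass.comp (eW n z) (add_comm 1 n))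
    fun s t => by simp only [map_add]; exact Abelian.Ext.comp_add _ _ _ _,
    ?_, fun n => ?_, fun n => ?_, fun n => ?_⟩
  · rw [eq_bot_iff]
    intro e he
    rw [AddMonoidHom.mem_ker] at he
    obtain ⟨x, rfl⟩ := (Abelian.Ext.mk₀_bijective _ _).2 e
    have h₀ := (g_comp eU eV rU rV hrU hrV 0 (Abelian.Ext.mk₀ x)).trans
      ((pairE_eq_zero eU eV hU hV _).2 he)
    rw [Abelian.Ext.mk₀_comp_mk₀] at h₀
    have h' : biprod.desc c d ≫ x = 0 :=
      (Abelian.Ext.mk₀_bijective _ _).1 (h₀.trans (Abelian.Ext.mk₀_zero _ _).symm)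
    have : Epi (biprod.desc c d) := hS.epi_g
    rw [AddSubgroup.mem_bot, (cancel_epi (biprod.desc c d)).1 (h'.trans comp_zero.symm)]
    exact Abelian.Ext.mk₀_zero _ _
  · ext e
    rw [AddMonoidHom.mem_ker, AddMonoidHom.mem_range]
    constructor
    · intro he
      obtain ⟨x, hx⟩ := Abelian.Ext.contravariant_sequence_exact₃ hS F e
        ((g_comp eU eV rU rV hrU hrV (n + 1) e).trans ((pairE_eq_zero eU eV hU hV _).2 he))
        (add_comm 1 n)
      obtain ⟨z, rfl⟩ := (hW n).2 x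
      exact ⟨z, hx⟩
    · rintro ⟨z, rfl⟩
      refine (pairE_eq_zero eU eV hU hV _).1 ((g_comp eU eV rU rV hrU hrV (n + 1) _).symm.trans ?_)
      exact hS.comp_extClass_assoc _ (add_comm 1 n)
  · ext p
    rw [AddMonoidHom.mem_ker, AddMonoidHom.mem_range]
    constructor
    · intro hp
      obtain ⟨e, he⟩ := Abelian.Ext.contravariant_sequence_exact₂ hS F (pairE eU eV n p)
        ((f_comp eU eV eW sU sV hsU hsV n p).trans ((congrArg (eW n) hp).trans (map_zero _)))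
      exact ⟨e, pairE_injective eU eV hU hV n ((g_comp eU eV rU rV hrU hrV n e).symm.trans he)⟩
    · rintro ⟨e, rfl⟩
      refine (hW n).1 ((f_comp eU eV eW sU sV hsU hsV n (rU n e, rV n e)).symm.trans ?_)
      rw [← g_comp eU eV rU rV hrU hrV, Abelian.Ext.mk₀_comp_mk₀_assoc, h, Abelian.Ext.mk₀_zero,
        Abelian.Ext.zero_comp, map_zero]
  · ext z
    rw [AddMonoidHom.mem_ker, AddMonoidHom.mem_range]
    constructor
    · intro hz
      obtain ⟨y, hy⟩ := Abelian.Ext.contravariant_sequence_exact₁ hS F (eW n z) (add_comm 1 n) hz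
      obtain ⟨p, rfl⟩ := pairE_surjective eU eV hU hV n y
      exact ⟨p, (hW n).1 ((f_comp eU eV eW sU sV hsU hsV n p).symm.trans hy)⟩
    · rintro ⟨p, rfl⟩
      show hS.extClass.comp (eW n (sU n p.1 - sV n p.2)) (add_comm 1 n) = 0
      rw [← f_comp eU eV eW sU sV hsU hsV]
      exact hS.extClass_comp_assoc _

end Groth.Agent.EtMV.Alg
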