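import Groth.Agent.EtMV.Rel
import Groth.Agent.EtaleSite.OpenImm
import Groth.Agent.EtaleSite.ExtZeroStalk

/-!
# The Mayer–Vietoris sequence of the sheaves `j_! ℤ`
-/

set_option autoImplicit false

universe u

open CategoryTheory CategoryTheory.Limits AlgebraicGeometry Opposite

noncomputable section

namespace Groth.Agent.EtMV

open Groth.Agent.EtaleSite

section Parts

variable {D : Type*} [Category D] [Preadditive D] (S : ShortComplex D) {P Q : D}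
  (i₁ : P ⟶ S.X₂) (i₂ : Q ⟶ S.X₂) (p₁ : S.X₂ ⟶ P) (p₂ : S.X₂ ⟶ Q)
  (tot : p₁ ≫ i₁ + p₂ ≫ i₂ = 𝟙 S.X₂) (k₁ : i₁ ≫ p₁ = 𝟙 P) (k₂ : i₂ ≫ p₁ = 0)
  (a : S.X₁ ⟶ P) (b : S.X₁ ⟶ Q) (c : P ⟶ S.X₃) (d : Q ⟶ S.X₃)
  (hf : S.f = a ≫ i₁ - b ≫ i₂) (h₁ : i₁ ≫ S.g = c) (h₂ : i₂ ≫ S.g = d)

include tot in
theorem splitting_of_parts (r : S.X₂ ⟶ S.X₁) (s : S.X₃ ⟶ S.X₂)
    (hfr : S.f ≫ r = 𝟙 S.X₁) (hsg : s ≫ S.g = 𝟙 S.X₃)
    (e₁ : i₁ ≫ r ≫ S.f + i₁ ≫ S.g ≫ s = i₁) (e₂ : i₂ ≫ r ≫ S.f + i₂ ≫ S.g ≫ s = i₂) :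
    Nonempty S.Splitting := by
  refine ⟨{ r := r, s := s, f_r := hfr, s_g := hsg, id := ?_ }⟩
  calc r ≫ S.f + S.g ≫ s = (p₁ ≫ i₁ + p₂ ≫ i₂) ≫ (r ≫ S.f + S.g ≫ s) := by rw [tot, Category.id_comp]
    _ = p₁ ≫ (i₁ ≫ r ≫ S.f + i₁ ≫ S.g ≫ s) + p₂ ≫ (i₂ ≫ r ≫ S.f + i₂ ≫ S.g ≫ s) := by
      simp only [Preadditive.add_comp, Preadditive.comp_add, Category.assoc]
      abel
    _ = 𝟙 S.X₂ := by rw [e₁, e₂, tot]

include tot k₁ k₂ hf h₁ h₂ in
theorem splitting_both (ha : IsIso a) (hd : IsIso d) (hw : a ≫ c = b ≫ d) : Nonempty S.Splitting := by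
  refine splitting_of_parts S i₁ i₂ p₁ p₂ tot (p₁ ≫ inv a) (inv d ≫ i₂) ?_ ?_ ?_ ?_
  · rw [hf, Preadditive.sub_comp, Category.assoc, Category.assoc, reassoc_of% k₁, reassoc_of% k₂,
      IsIso.hom_inv_id, zero_comp, comp_zero, sub_zero]
  · rw [Category.assoc, h₂, IsIso.inv_hom_id]
  · rw [Category.assoc, reassoc_of% k₁, reassoc_of% h₁, hf, Preadditive.comp_sub,
      IsIso.inv_hom_id_assoc]
    have : inv a ≫ b = c ≫ inv d := by
      rw [IsIso.inv_comp_eq, ← Category.assoc, IsIso.eq_comp_inv, hw]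
    rw [← Category.assoc (inv a), this, Category.assoc]
    abel
  · rw [Category.assoc, reassoc_of% k₂, zero_comp, zero_add, reassoc_of% h₂, IsIso.hom_inv_id_assoc]

include tot h₁ in
theorem splitting_left (hX : IsZero S.X₁) (hQ : IsZero Q) (hc : IsIso c) : Nonempty S.Splitting := by
  refine splitting_of_parts S i₁ i₂ p₁ p₂ tot 0 (inv c ≫ i₁) (hX.eq_of_src _ _) ?_ ?_ (hQ.eq_of_src _ _)
  · rw [Category.assoc, h₁, IsIso.inv_hom_id]
  · rw [zero_comp, comp_zero, zero_add, reassoc_of% h₁, IsIso.hom_inv_id_assoc]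

include tot h₂ in
theorem splitting_right (hX : IsZero S.X₁) (hP : IsZero P) (hd : IsIso d) : Nonempty S.Splitting := by
  refine splitting_of_parts S i₁ i₂ p₁ p₂ tot 0 (inv d ≫ i₂) (hX.eq_of_src _ _) ?_ (hP.eq_of_src _ _) ?_
  · rw [Category.assoc, h₂, IsIso.inv_hom_id]
  · rw [zero_comp, comp_zero, zero_add, reassoc_of% h₂, IsIso.hom_inv_id_assoc]

end Parts

variable {A B X : Scheme.{u}}

theorem isIso_unit (t : A ⟶ X) [Etale t] [Mono t] (F : EtCoh.Ab A) :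
    IsIso ((EtSupp.extPullAdj t).unit.app F) := by
  have := isIso_unit_extZero t F
  have h : (EtSupp.extPullAdj t).unit.app F = (EtShriek.extZeroAdj t).unit.app F ≫
      (EtaleSite.pullIsoRestrAlong t).inv.app ((EtShriek.extZero t).obj F) := by
    simp [EtSupp.extPullAdj, Adjunction.ofNatIsoRight, Adjunction.homEquiv_unit]
  rw [h]
  infer_instance

theorem isIso_pull_cMap (t : A ⟶ X) [Etale t] [Mono t] : IsIso ((EtCoh.pull t).map (cMap t)) := by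
  have := isIso_unit t (EtCoh.const A ℤ)
  have h := ((EtSupp.extPullAdj t).homEquiv _ _).apply_symm_apply (EtCore.pullConst t ℤ).inv
  rw [Adjunction.homEquiv_unit] at h
  exact IsIso.of_isIso_fac_left h

theorem isIso_pull_gMap (f : A ⟶ B) (t : B ⟶ X) (t₀ : A ⟶ X) (w : f ≫ t = t₀) [Etale t] [Mono t]
    [Etale t₀] [Mono t₀] : IsIso ((EtCoh.pull t₀).map (gMap f t t₀ w)) := by
  have := isIso_unit t₀ (EtCoh.const A ℤ)
  have := isIso_unit t (EtCoh.const B ℤ)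
  have h := homEquiv_gMap_comp f t t₀ w (𝟙 (ZZ t))
  rw [Category.comp_id, Adjunction.homEquiv_id, Adjunction.homEquiv_unit] at h
  have : IsIso ((EtCore.pullConst f ℤ).inv ≫
      (EtCoh.pull f).map ((EtSupp.extPullAdj t).unit.app (EtCoh.const B ℤ)) ≫
        (via f t t₀ w).hom.app (ZZ t)) := inferInstance
  exact IsIso.of_isIso_fac_left (hh := this) h

variable {Ω : Type u} [Field Ω] [IsSepClosed Ω]

theorem exists_lift (t : A ⟶ X) [IsOpenImmersion t] (ξ : Spec (CommRingCat.of Ω) ⟶ X)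
    (hξ : ξ default ∈ Set.range t) : ∃ ζ : Spec (CommRingCat.of Ω) ⟶ A, ζ ≫ t = ξ :=
  ⟨IsOpenImmersion.lift t ξ (by rintro _ ⟨y, rfl⟩; rwa [Subsingleton.elim y default]),
    IsOpenImmersion.lift_fac _ _ _⟩

theorem isIso_stalk_of_pull (t : A ⟶ X) (ζ : Spec (CommRingCat.of Ω) ⟶ A) {F G : EtCoh.Ab X}
    (φ : F ⟶ G) (h : IsIso ((EtCoh.pull t).map φ)) : IsIso ((EtCoh.stalk (ζ ≫ t)).map φ) :=
  (NatIso.isIso_map_iff (stalkPullIso t ζ) φ).1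
    (inferInstanceAs (IsIso ((EtCoh.stalk ζ).map ((EtCoh.pull t).map φ))))

theorem isZero_stalk_ZZ (t : A ⟶ X) [Etale t] (ξ : Spec (CommRingCat.of Ω) ⟶ X)
    (hξ : ξ default ∉ Set.range t) : IsZero ((EtCoh.stalk ξ).obj (ZZ t)) := by
  have : IsEmpty (PtLift t ξ) := ⟨fun u => hξ ⟨u.1 default, congrArg (fun k => k default) u.2⟩⟩
  rw [IsZero.iff_id_eq_zero]
  exact Cofan.IsColimit.hom_ext (isColimitStalkIncl t ξ (EtCoh.const A ℤ)) _ _ fun u => isEmptyElim u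

variable (X) (U V : X.Opens)

/-- `U ∩ V → U`. -/
abbrev toU : ↑(U ⊓ V) ⟶ (U : Scheme.{u}) := X.homOfLE inf_le_left

/-- `U ∩ V → V`. -/
abbrev toV : ↑(U ⊓ V) ⟶ (V : Scheme.{u}) := X.homOfLE inf_le_right

/-- The transition map into `U`. -/
abbrev gU : ZZ (U ⊓ V).ι ⟶ ZZ U.ι := gMap (toU X U V) U.ι (U ⊓ V).ι (X.homOfLE_ι inf_le_left)

/-- The transition map into `V`. -/
abbrev gV : ZZ (U ⊓ V).ι ⟶ ZZ V.ι := gMap (toV X U V) V.ι (U ⊓ V).ι (X.homOfLE_ι inf_le_right)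

/-- `0 → W_! ℤ → U_! ℤ ⊞ V_! ℤ → ℤ → 0`. -/
def seq : ShortComplex (EtCoh.Ab X) :=
  ShortComplex.mk (biprod.lift (gU X U V) (-gV X U V)) (biprod.desc (cMap U.ι) (cMap V.ι)) (by
    rw [biprod.lift_desc, Preadditive.neg_comp, gMap_cMap, gMap_cMap, add_neg_cancel])

theorem splitting_stalk (hUV : U ⊔ V = ⊤) (ξ : Spec (CommRingCat.of Ω) ⟶ X) :
    Nonempty ((seq X U V).map (EtCoh.stalk ξ)).Splitting := by
  have hmem : ∀ (Z : X.Opens), ξ default ∈ Set.range Z.ι ↔ ξ default ∈ Z := fun Z => by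
    rw [Scheme.Opens.range_ι]; rfl
  have hw : (EtCoh.stalk ξ).map (gU X U V) ≫ (EtCoh.stalk ξ).map (cMap U.ι) =
      (EtCoh.stalk ξ).map (gV X U V) ≫ (EtCoh.stalk ξ).map (cMap V.ι) := by
    rw [← Functor.map_comp, ← Functor.map_comp, gMap_cMap, gMap_cMap]
  have hf' : (EtCoh.stalk ξ).map (biprod.lift (gU X U V) (-gV X U V)) =
      (EtCoh.stalk ξ).map (gU X U V) ≫ (EtCoh.stalk ξ).map biprod.inl -
        (EtCoh.stalk ξ).map (gV X U V) ≫ (EtCoh.stalk ξ).map biprod.inr := by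
    rw [← Functor.map_comp, ← Functor.map_comp, ← Functor.map_sub]
    congr 1
    apply biprod.hom_ext <;>
      simp only [biprod.lift_fst, biprod.lift_snd, Preadditive.sub_comp, Category.assoc,
        biprod.inl_fst, biprod.inl_snd, biprod.inr_fst, biprod.inr_snd, Category.comp_id, comp_zero,
        sub_zero, zero_sub]
  have e₁ : (EtCoh.stalk ξ).map (biprod.inl : ZZ U.ι ⟶ ZZ U.ι ⊞ ZZ V.ι) ≫
      (EtCoh.stalk ξ).map (biprod.desc (cMap U.ι) (cMap V.ι)) = (EtCoh.stalk ξ).map (cMap U.ι) := by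
    rw [← Functor.map_comp, biprod.inl_desc]
  have e₂ : (EtCoh.stalk ξ).map (biprod.inr : ZZ V.ι ⟶ ZZ U.ι ⊞ ZZ V.ι) ≫
      (EtCoh.stalk ξ).map (biprod.desc (cMap U.ι) (cMap V.ι)) = (EtCoh.stalk ξ).map (cMap V.ι) := by
    rw [← Functor.map_comp, biprod.inr_desc]
  have tot : (EtCoh.stalk ξ).map (biprod.fst : ZZ U.ι ⊞ ZZ V.ι ⟶ _) ≫ (EtCoh.stalk ξ).map biprod.inl +
      (EtCoh.stalk ξ).map (biprod.snd : ZZ U.ι ⊞ ZZ V.ι ⟶ _) ≫ (EtCoh.stalk ξ).map biprod.inr =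
        𝟙 ((EtCoh.stalk ξ).obj (ZZ U.ι ⊞ ZZ V.ι)) := by
    rw [← Functor.map_comp, ← Functor.map_comp, ← Functor.map_add, biprod.total,
      CategoryTheory.Functor.map_id]
  have k₁ : (EtCoh.stalk ξ).map (biprod.inl : ZZ U.ι ⟶ ZZ U.ι ⊞ ZZ V.ι) ≫
      (EtCoh.stalk ξ).map biprod.fst = 𝟙 _ := by
    rw [← Functor.map_comp, biprod.inl_fst, CategoryTheory.Functor.map_id]
  have k₂ : (EtCoh.stalk ξ).map (biprod.inr : ZZ V.ι ⟶ ZZ U.ι ⊞ ZZ V.ι) ≫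
      (EtCoh.stalk ξ).map biprod.fst = 0 := by
    rw [← Functor.map_comp, biprod.inr_fst, Functor.map_zero]
  by_cases hU : ξ default ∈ U
  · have hcU : IsIso ((EtCoh.stalk ξ).map (cMap U.ι)) := by
      obtain ⟨ζ, rfl⟩ := exists_lift U.ι ξ ((hmem U).2 hU)
      exact isIso_stalk_of_pull U.ι ζ _ (isIso_pull_cMap U.ι)
    by_cases hV : ξ default ∈ V
    · have hgU : IsIso ((EtCoh.stalk ξ).map (gU X U V)) := by
        obtain ⟨ζ, rfl⟩ := exists_lift (U ⊓ V).ι ξ ((hmem _).2 ⟨hU, hV⟩)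
        exact isIso_stalk_of_pull (U ⊓ V).ι ζ _
          (isIso_pull_gMap (toU X U V) U.ι (U ⊓ V).ι (X.homOfLE_ι inf_le_left))
      have hcV : IsIso ((EtCoh.stalk ξ).map (cMap V.ι)) := by
        obtain ⟨η, rfl⟩ := exists_lift V.ι ξ ((hmem V).2 hV)
        exact isIso_stalk_of_pull V.ι η _ (isIso_pull_cMap V.ι)
      exact splitting_both ((seq X U V).map (EtCoh.stalk ξ)) _ _ _ ((EtCoh.stalk ξ).map biprod.snd) tot k₁ k₂
        _ _ _ _ hf' e₁ e₂ hgU hcV hw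
    · exact splitting_left ((seq X U V).map (EtCoh.stalk ξ)) _ _ _ ((EtCoh.stalk ξ).map biprod.snd) tot
        _ e₁ (isZero_stalk_ZZ (U ⊓ V).ι ξ (fun h => hV ((hmem _).1 h).2))
        (isZero_stalk_ZZ V.ι ξ (fun h => hV ((hmem _).1 h))) hcU
  · have hV : ξ default ∈ V := by
      have : ξ default ∈ U ⊔ V := by rw [hUV]; trivial
      exact this.resolve_left hU
    have hcV : IsIso ((EtCoh.stalk ξ).map (cMap V.ι)) := by
      obtain ⟨η, rfl⟩ := exists_lift V.ι ξ ((hmem V).2 hV)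
      exact isIso_stalk_of_pull V.ι η _ (isIso_pull_cMap V.ι)
    exact splitting_right ((seq X U V).map (EtCoh.stalk ξ)) _ _ ((EtCoh.stalk ξ).map biprod.fst)
      ((EtCoh.stalk ξ).map biprod.snd) tot _ e₂
      (isZero_stalk_ZZ (U ⊓ V).ι ξ (fun h => hU ((hmem _).1 h).1))
      (isZero_stalk_ZZ U.ι ξ (fun h => hU ((hmem _).1 h))) hcV

theorem shortExact_seq (hUV : U ⊔ V = ⊤) : (seq X U V).ShortExact := by
  have h : ∀ (Ω : Type u) [Field Ω] [IsSepClosed Ω] (ξ : Spec (CommRingCat.of Ω) ⟶ X),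
      ((seq X U V).map (EtCoh.stalk ξ)).ShortExact := fun Ω _ _ ξ =>
    (splitting_stalk X U V hUV ξ).some.shortExact
  exact
    { exact := (exact_iff_stalk _).2 fun Ω _ _ ξ => (h Ω ξ).exact
      mono_f := mono_of_stalk _ fun Ω _ _ ξ => (AddCommGrpCat.mono_iff_injective _).1 (h Ω ξ).mono_f
      epi_g := epi_of_stalk _ fun Ω _ _ ξ => (AddCommGrpCat.epi_iff_surjective _).1 (h Ω ξ).epi_g }

end Groth.Agent.EtMV
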