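import Groth.Agent.EtMV.Exact
import Groth.Agent.EtMV.Alg

/-!
# The Mayer–Vietoris sequence in étale cohomology
-/

set_option autoImplicit false

universe u

open CategoryTheory CategoryTheory.Limits AlgebraicGeometry Opposite

noncomputable section

namespace Groth.Agent.EtMV

variable {X : Scheme.{u}} {U V : X.Opens} {F : EtCoh.Ab X}

theorem main (hUV : U ⊔ V = ⊤) :
    ∃ δ : ∀ n : ℕ, EtCoh.H ↑(U ⊓ V) ((EtCoh.pull (U ⊓ V).ι).obj F) n →+ EtCoh.H X F (n + 1),
      (AddMonoidHom.prod (EtCore.Hpull U.ι F 0) (EtCore.Hpull V.ι F 0)).ker = ⊥ ∧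
      (∀ n : ℕ, (AddMonoidHom.prod (EtCore.Hpull U.ι F (n + 1)) (EtCore.Hpull V.ι F (n + 1))).ker =
        (δ n).range) ∧
      (∀ n : ℕ, ((EtCore.HpullVia (toU X U V) U.ι (U ⊓ V).ι (X.homOfLE_ι inf_le_left) F n).comp
          (AddMonoidHom.fst _ _) -
          (EtCore.HpullVia (toV X U V) V.ι (U ⊓ V).ι (X.homOfLE_ι inf_le_right) F n).comp
          (AddMonoidHom.snd _ _)).ker =
        (AddMonoidHom.prod (EtCore.Hpull U.ι F n) (EtCore.Hpull V.ι F n)).range) ∧
      (∀ n : ℕ, (δ n).ker =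
        ((EtCore.HpullVia (toU X U V) U.ι (U ⊓ V).ι (X.homOfLE_ι inf_le_left) F n).comp
          (AddMonoidHom.fst _ _) -
          (EtCore.HpullVia (toV X U V) V.ι (U ⊓ V).ι (X.homOfLE_ι inf_le_right) F n).comp
          (AddMonoidHom.snd _ _)).range) :=
  Alg.main (shortExact_seq X U V hUV) (fun n => toE U.ι F n) (fun n => toE V.ι F n)
    (fun n => toE (U ⊓ V).ι F n) (fun n => toE_bijective U.ι F n) (fun n => toE_bijective V.ι F n)
    (fun n => toE_bijective (U ⊓ V).ι F n) (fun n => EtCore.Hpull U.ι F n)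
    (fun n => EtCore.Hpull V.ι F n) _ _ (fun n x => toE_Hpull U.ι n F x)
    (fun n x => toE_Hpull V.ι n F x) (fun n x => toE_HpullVia _ _ _ _ n F x)
    (fun n x => toE_HpullVia _ _ _ _ n F x)

end Groth.Agent.EtMV
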