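import Groth.Agent.EtMV.Exact

/-!
# The sheaves `ℤ_A` for opens `A` and relative Mayer–Vietoris
-/

set_option autoImplicit false

universe u

open CategoryTheory CategoryTheory.Limits AlgebraicGeometry Opposite

noncomputable section

namespace Groth.Agent.EtMV

open Groth.Agent.EtaleSite

variable {X : Scheme.{u}}

/-- `ℤ_A` for an open `A`. -/
abbrev ZO (A : X.Opens) : EtCoh.Ab X := ZZ A.ι

/-- The inclusion `ℤ_A → ℤ_B`. -/
def gLE {A B : X.Opens} (h : A ≤ B) : ZO A ⟶ ZO B :=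
  gMap (X.homOfLE h) B.ι A.ι (X.homOfLE_ι h)

theorem gLE_cMap {A B : X.Opens} (h : A ≤ B) : gLE h ≫ cMap B.ι = cMap A.ι := gMap_cMap _ _ _ _

section Stalks

variable {Ω : Type u} [Field Ω] [IsSepClosed Ω] (ξ : Spec (CommRingCat.of Ω) ⟶ X)

theorem isIso_stalk_cMap {A : X.Opens} (h : ξ default ∈ A) :
    IsIso ((EtCoh.stalk ξ).map (cMap A.ι)) := by
  obtain ⟨ζ, rfl⟩ := exists_lift A.ι ξ (by rw [Scheme.Opens.range_ι]; exact h)
  exact isIso_stalk_of_pull A.ι ζ _ (isIso_pull_cMap A.ι)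

theorem isIso_stalk_gLE {A B : X.Opens} (hle : A ≤ B) (h : ξ default ∈ A) :
    IsIso ((EtCoh.stalk ξ).map (gLE hle)) := by
  obtain ⟨ζ, rfl⟩ := exists_lift A.ι ξ (by rw [Scheme.Opens.range_ι]; exact h)
  exact isIso_stalk_of_pull A.ι ζ _ (isIso_pull_gMap (X.homOfLE hle) B.ι A.ι (X.homOfLE_ι hle))

theorem isZero_stalk_ZO {A : X.Opens} (h : ξ default ∉ A) : IsZero ((EtCoh.stalk ξ).obj (ZO A)) :=
  isZero_stalk_ZZ A.ι ξ (by rw [Scheme.Opens.range_ι]; exact h)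

end Stalks

instance mono_cMap (A : X.Opens) : Mono (cMap A.ι) := mono_of_stalk _ fun Ω _ _ ξ => by
  by_cases h : ξ default ∈ A
  · have := isIso_stalk_cMap ξ h
    exact (ConcreteCategory.bijective_of_isIso ((EtCoh.stalk ξ).map (cMap A.ι))).1
  · have := AddCommGrpCat.subsingleton_of_isZero (isZero_stalk_ZO ξ h)
    exact fun a b _ => Subsingleton.elim a b

theorem gLE_comp {A B C : X.Opens} (h : A ≤ B) (h' : B ≤ C) :
    gLE h ≫ gLE h' = gLE (h.trans h') := by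
  rw [← cancel_mono (cMap C.ι), Category.assoc, gLE_cMap, gLE_cMap, gLE_cMap]

theorem isZero_ZO_of_isEmpty {A : X.Opens} (h : ∀ x, x ∉ A) : IsZero (ZO A) :=
  (isZero_iff_stalk _).2 fun _ _ _ ξ => isZero_stalk_ZO ξ (h _)

theorem isIso_cMap_top : IsIso (cMap (⊤ : X.Opens).ι) :=
  isIso_of_stalk _ fun _ _ _ ξ => isIso_stalk_cMap ξ trivial

theorem gLE_square {A B B' C : X.Opens} (a : A ≤ B) (b : A ≤ B') (h : B ≤ C) (h' : B' ≤ C) :
    gLE a ≫ gLE h = gLE b ≫ gLE h' := by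
  rw [← cancel_mono (cMap C.ι), Category.assoc, Category.assoc, gLE_cMap, gLE_cMap, gLE_cMap, gLE_cMap]

theorem neg_gLE_square {A B B' C : X.Opens} (a : A ≤ B) (b : A ≤ B') (h : B ≤ C) (h' : B' ≤ C) :
    biprod.lift (gLE a) (-gLE b) ≫ biprod.desc (gLE h) (gLE h') = 0 := by
  rw [biprod.lift_desc, Preadditive.neg_comp, gLE_square a b h h', add_neg_cancel]

variable {U V W O : X.Opens} (hU : U ≤ W) (hV : V ≤ W) (oU : O ≤ U) (oV : O ≤ V)

/-- `0 → ℤ_O → ℤ_U ⊞ ℤ_V → ℤ_W → 0` for `O = U ∩ V`. -/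
def seqRel : ShortComplex (EtCoh.Ab X) :=
  ShortComplex.mk (biprod.lift (gLE oU) (-gLE oV)) (biprod.desc (gLE hU) (gLE hV))
    (neg_gLE_square oU oV hU hV)

theorem shortExact_seqRel (hO : ∀ x, x ∈ U → x ∈ V → x ∈ O) (hW : ∀ x ∈ W, x ∈ U ∨ x ∈ V) :
    (seqRel hU hV oU oV).ShortExact := by
  suffices h : ∀ (Ω : Type u) [Field Ω] [IsSepClosed Ω] (ξ : Spec (CommRingCat.of Ω) ⟶ X),
      ((seqRel hU hV oU oV).map (EtCoh.stalk ξ)).ShortExact from
    { exact := (exact_iff_stalk _).2 fun Ω _ _ ξ => (h Ω ξ).exact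
      mono_f := mono_of_stalk _ fun Ω _ _ ξ => (AddCommGrpCat.mono_iff_injective _).1 (h Ω ξ).mono_f
      epi_g := epi_of_stalk _ fun Ω _ _ ξ => (AddCommGrpCat.epi_iff_surjective _).1 (h Ω ξ).epi_g }
  intro Ω _ _ ξ
  let T := EtCoh.stalk ξ
  let gu : ZO O ⟶ ZO U := gLE oU
  let gv : ZO O ⟶ ZO V := gLE oV
  have hw : T.map gu ≫ T.map (gLE hU) = T.map gv ≫ T.map (gLE hV) := by
    rw [← Functor.map_comp, ← Functor.map_comp, gLE_square oU oV hU hV]
  have hf' : T.map (biprod.lift gu (-gv)) =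
      T.map gu ≫ T.map biprod.inl - T.map gv ≫ T.map biprod.inr := by
    rw [← Functor.map_comp, ← Functor.map_comp, ← Functor.map_sub]
    congr 1
    apply biprod.hom_ext <;>
      simp only [biprod.lift_fst, biprod.lift_snd, Preadditive.sub_comp, Category.assoc,
        biprod.inl_fst, biprod.inl_snd, biprod.inr_fst, biprod.inr_snd, Category.comp_id, comp_zero,
        sub_zero, zero_sub]
  have e₁ : T.map (biprod.inl : ZO U ⟶ ZO U ⊞ ZO V) ≫ T.map (biprod.desc (gLE hU) (gLE hV)) =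
      T.map (gLE hU) := by
    rw [← Functor.map_comp, biprod.inl_desc]
  have e₂ : T.map (biprod.inr : ZO V ⟶ ZO U ⊞ ZO V) ≫ T.map (biprod.desc (gLE hU) (gLE hV)) =
      T.map (gLE hV) := by
    rw [← Functor.map_comp, biprod.inr_desc]
  have tot : T.map (biprod.fst : ZO U ⊞ ZO V ⟶ _) ≫ T.map biprod.inl +
      T.map (biprod.snd : ZO U ⊞ ZO V ⟶ _) ≫ T.map biprod.inr = 𝟙 (T.obj (ZO U ⊞ ZO V)) := by
    rw [← Functor.map_comp, ← Functor.map_comp, ← Functor.map_add, biprod.total,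
      CategoryTheory.Functor.map_id]
  have k₁ : T.map (biprod.inl : ZO U ⟶ ZO U ⊞ ZO V) ≫ T.map biprod.fst = 𝟙 _ := by
    rw [← Functor.map_comp, biprod.inl_fst, CategoryTheory.Functor.map_id]
  have k₂ : T.map (biprod.inr : ZO V ⟶ ZO U ⊞ ZO V) ≫ T.map biprod.fst = 0 := by
    rw [← Functor.map_comp, biprod.inr_fst, Functor.map_zero]
  by_cases hu : ξ default ∈ U
  · have hcU := isIso_stalk_gLE ξ hU hu
    by_cases hv : ξ default ∈ V
    · have hgU := isIso_stalk_gLE ξ oU (hO _ hu hv)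
      have hcV := isIso_stalk_gLE ξ hV hv
      exact (splitting_both ((seqRel hU hV oU oV).map T) _ _ _ (T.map biprod.snd) tot k₁ k₂
        _ _ _ _ hf' e₁ e₂ hgU hcV hw).some.shortExact
    · exact (splitting_left ((seqRel hU hV oU oV).map T) _ _ _ (T.map biprod.snd) tot
        _ e₁ (isZero_stalk_ZO ξ fun h => hv (oV h)) (isZero_stalk_ZO ξ hv) hcU).some.shortExact
  · by_cases hv : ξ default ∈ V
    · have hcV := isIso_stalk_gLE ξ hV hv
      exact (splitting_right ((seqRel hU hV oU oV).map T) _ _ (T.map biprod.fst) (T.map biprod.snd) tot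
        _ e₂ (isZero_stalk_ZO ξ fun h => hu (oU h)) (isZero_stalk_ZO ξ hu) hcV).some.shortExact
    · have hw' : ξ default ∉ W := fun h => (hW _ h).elim hu hv
      have z₂ : IsZero (T.obj (ZO U ⊞ ZO V)) := by
        rw [IsZero.iff_id_eq_zero, ← tot, (isZero_stalk_ZO ξ hu).eq_of_tgt (T.map biprod.fst) 0,
          (isZero_stalk_ZO ξ hv).eq_of_tgt (T.map biprod.snd) 0, zero_comp, zero_comp, add_zero]
      exact
        { exact := ShortComplex.exact_of_isZero_X₂ _ z₂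
          mono_f := (isZero_stalk_ZO ξ fun h => hu (oU h)).mono _
          epi_g := (isZero_stalk_ZO ξ hw').epi _ }

/-- A class on `W` vanishing on `U` and `V` comes from one on `U ⊓ V` in one degree less. -/
theorem exists_of_restrict_eq_zero (hO : ∀ x, x ∈ U → x ∈ V → x ∈ O) (hW : ∀ x ∈ W, x ∈ U ∨ x ∈ V) (F : EtCoh.Ab X) {n : ℕ}
    (e : Abelian.Ext (ZO W) F (n + 1))
    (h₁ : (Abelian.Ext.mk₀ (gLE hU)).comp e (zero_add _) = 0)
    (h₂ : (Abelian.Ext.mk₀ (gLE hV)).comp e (zero_add _) = 0) :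
    ∃ z : Abelian.Ext (ZO O) F n,
      (shortExact_seqRel hU hV oU oV hO hW).extClass.comp z (add_comm 1 n) = e := by
  refine Abelian.Ext.contravariant_sequence_exact₃ (shortExact_seqRel hU hV oU oV hO hW) F e ?_ (add_comm 1 n)
  refine Abelian.Ext.biprod_ext ?_ ?_
  · refine Eq.trans ?_ (Abelian.Ext.comp_zero _ _ _ _ _).symm
    refine (Abelian.Ext.mk₀_comp_mk₀_assoc _ _ _).trans ?_
    exact (congrArg (fun z => (Abelian.Ext.mk₀ z).comp e (zero_add _)) (biprod.inl_desc _ _)).trans h₁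
  · refine Eq.trans ?_ (Abelian.Ext.comp_zero _ _ _ _ _).symm
    refine (Abelian.Ext.mk₀_comp_mk₀_assoc _ _ _).trans ?_
    exact (congrArg (fun z => (Abelian.Ext.mk₀ z).comp e (zero_add _)) (biprod.inr_desc _ _)).trans h₂

end Groth.Agent.EtMV
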