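import Groth.Agent.EtaleSite.Flasque
import Groth.Agent.EtaleSite.HpullFunctor
import Groth.Agent.EtaleSite.HpullComp

/-!
# `j_! ℤ` as a corepresenting object of relative cohomology

`toE : H^n(A, t⁻¹F) → Ext^n(t_! ℤ, F)` turns `Hpull` and `HpullVia` into precomposition.
-/

set_option autoImplicit false

universe u

open CategoryTheory CategoryTheory.Limits AlgebraicGeometry Opposite

noncomputable section

namespace Groth.Agent.EtMV

open Groth.Agent.EtaleSite

variable {A B X : Scheme.{u}}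

instance additive_extZero (t : A ⟶ X) [Etale t] : (EtShriek.extZero t).Additive :=
  (EtSupp.extPullAdj t).left_adjoint_additive

instance preservesFiniteColimits_extZero (t : A ⟶ X) [Etale t] :
    PreservesFiniteColimits (EtShriek.extZero t) :=
  haveI : PreservesColimitsOfSize.{0, 0} (EtShriek.extZero t) :=
    (EtShriek.extZeroAdj t).leftAdjoint_preservesColimits
  PreservesColimitsOfSize.preservesFiniteColimits _

/-- `t_! ℤ`. -/
abbrev ZZ (t : A ⟶ X) [Etale t] : EtCoh.Ab X := (EtShriek.extZero t).obj (EtCoh.const A ℤ)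

/-- `H^n(A, t⁻¹F) → Ext^n(t_! ℤ, F)`. -/
def toE (t : A ⟶ X) [Etale t] (F : EtCoh.Ab X) (n : ℕ) :
    EtCoh.H A ((EtCoh.pull t).obj F) n →+ Abelian.Ext (ZZ t) F n :=
  AddMonoidHom.mk' (fun e => AdjExt.toExt (EtSupp.extPullAdj t) (EtCoh.const A ℤ) F n e) fun a b => by
    simp only [AdjExt.toExt]
    exact (congrArg (fun z => Abelian.Ext.comp z _ (add_zero n))
      (map_add ((EtShriek.extZero t).mapExtAddHom _ _ n) a b)).trans (Abelian.Ext.add_comp _ _ _ _)

theorem toE_bijective (t : A ⟶ X) [Etale t] (F : EtCoh.Ab X) (n : ℕ) :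
    Function.Bijective (toE t F n) :=
  Flasque.bijective_toExt_freeOn (Scheme.Etale.mk t) F n

theorem toE_mk₀ (t : A ⟶ X) [Etale t] {F : EtCoh.Ab X}
    (a : EtCoh.const A ℤ ⟶ (EtCoh.pull t).obj F) :
    toE t F 0 (Abelian.Ext.mk₀ a) =
      Abelian.Ext.mk₀ (((EtSupp.extPullAdj t).homEquiv _ _).symm a) := by
  change AdjExt.toExt (EtSupp.extPullAdj t) (EtCoh.const A ℤ) F 0 (Abelian.Ext.mk₀ a) = _
  rw [AdjExt.toExt, Abelian.Ext.mapExactFunctor_mk₀, Abelian.Ext.mk₀_comp_mk₀, Adjunction.homEquiv_counit]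

theorem toE_extClass (t : A ⟶ X) [Etale t] {S : ShortComplex (EtCoh.Ab X)} (hS : S.ShortExact) (n : ℕ)
    (x : EtCoh.H A ((EtCoh.pull t).obj S.X₃) n) :
    toE t S.X₁ (n + 1) (x.comp (hS.map_of_exact (EtCoh.pull t)).extClass rfl) =
      (toE t S.X₃ n x).comp hS.extClass rfl :=
  AdjExt.toExt_comp_extClass (EtSupp.extPullAdj t) hS (hS.map_of_exact (EtCoh.pull t)) x

/-- Classes in positive degree come from the degree below. -/
theorem exists_extClass (F : EtCoh.Ab X) : ∃ (Q I : EtCoh.Ab X) (i : F ⟶ I) (p : I ⟶ Q) (h : i ≫ p = 0)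
    (hS : (ShortComplex.mk i p h).ShortExact), Injective I ∧
      ∀ (Z : EtCoh.Ab X) (n : ℕ) (e : Abelian.Ext Z F (n + 1)),
        ∃ e' : Abelian.Ext Z Q n, e'.comp hS.extClass rfl = e := by
  let S : ShortComplex (EtCoh.Ab X) :=
    ShortComplex.mk (Injective.ι F) (cokernel.π _) (cokernel.condition _)
  have : Epi S.g := coequalizer.π_epi
  have hS : S.ShortExact := { exact := ShortComplex.exact_cokernel _ }
  have hI : Injective (Injective.under F) := inferInstance
  refine ⟨_, _, _, _, _, hS, hI, fun Z n e => ?_⟩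
  exact Abelian.Ext.covariant_sequence_exact₁ Z hS e (Abelian.Ext.eq_zero_of_injective _) rfl

/-- The canonical map `t_! ℤ → ℤ`. -/
def cMap (t : A ⟶ X) [Etale t] : ZZ t ⟶ EtCoh.const X ℤ :=
  ((EtSupp.extPullAdj t).homEquiv _ _).symm (EtCore.pullConst t ℤ).inv

theorem toE_Hpull (t : A ⟶ X) [Etale t] : ∀ (n : ℕ) (F : EtCoh.Ab X) (e : EtCoh.H X F n),
    toE t F n (EtCore.Hpull t F n e) = (Abelian.Ext.mk₀ (cMap t)).comp e (zero_add n) := by
  intro n
  induction n with
  | zero =>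
    intro F e
    obtain ⟨x, rfl⟩ := (Abelian.Ext.mk₀_bijective _ _).2 e
    refine (congrArg (toE t F 0) (HpullComp.Hpull_mk₀ t x)).trans ?_
    refine (toE_mk₀ t _).trans (Eq.trans ?_ (Abelian.Ext.mk₀_comp_mk₀ _ _).symm)
    exact congrArg Abelian.Ext.mk₀ ((EtSupp.extPullAdj t).homEquiv_naturality_right_symm _ _)
  | succ n ih =>
    intro F e
    obtain ⟨Q, I, i, p, hip, hS, -, hsurj⟩ := exists_extClass F
    obtain ⟨e', rfl⟩ := hsurj _ n e
    refine (congrArg (toE t F (n + 1)) (HpullSeq.Hpull_extClass t hS n e')).trans ?_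
    refine (toE_extClass t hS n _).trans ?_
    refine (congrArg (fun z => Abelian.Ext.comp z hS.extClass rfl) (ih Q e')).trans ?_
    exact Abelian.Ext.comp_assoc _ _ _ (zero_add n) rfl (by omega)

variable (f : A ⟶ B) (t : B ⟶ X) (t₀ : A ⟶ X) (w : f ≫ t = t₀)

/-- The canonical isomorphism `f⁻¹ t⁻¹ ≅ t₀⁻¹`. -/
abbrev via : EtCoh.pull t ⋙ EtCoh.pull f ≅ EtCoh.pull t₀ :=
  (EtCore.pullComp f t).symm ≪≫ EtCore.pullCongr w

theorem HpullVia_extClass {S : ShortComplex (EtCoh.Ab X)} (hS : S.ShortExact) (n : ℕ)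
    (x : EtCoh.H B ((EtCoh.pull t).obj S.X₃) n) :
    EtCore.HpullVia f t t₀ w S.X₁ (n + 1) (x.comp (hS.map_of_exact (EtCoh.pull t)).extClass rfl) =
      (EtCore.HpullVia f t t₀ w S.X₃ n x).comp (hS.map_of_exact (EtCoh.pull t₀)).extClass rfl := by
  let φ : (S.map (EtCoh.pull t)).map (EtCoh.pull f) ⟶ S.map (EtCoh.pull t₀) :=
    S.mapNatTrans (via f t t₀ w).hom
  have h : (((hS.map_of_exact (EtCoh.pull t))).map_of_exact (EtCoh.pull f)).extClass.comp
      (Abelian.Ext.mk₀ ((via f t t₀ w).app S.X₁).hom) (add_zero 1) =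
      (Abelian.Ext.mk₀ ((via f t t₀ w).app S.X₃).hom).comp (hS.map_of_exact (EtCoh.pull t₀)).extClass
        (zero_add 1) :=
    ((hS.map_of_exact (EtCoh.pull t)).map_of_exact (EtCoh.pull f)).extClass_naturality
      (hS.map_of_exact (EtCoh.pull t₀)) φ
  refine (HpullFunctor.HpullVia_apply f t t₀ w S.X₁ (n + 1) _).trans ?_
  refine (congrArg (fun z => Abelian.Ext.comp z _ (add_zero (n + 1)))
    (HpullSeq.Hpull_extClass f (hS.map_of_exact (EtCoh.pull t)) n x)).trans ?_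
  refine (Abelian.Ext.comp_assoc_of_third_deg_zero _ _ _ _).trans ?_
  refine (congrArg (fun z => Abelian.Ext.comp _ z rfl) h).trans ?_
  exact (Abelian.Ext.comp_assoc_of_second_deg_zero _ _ _ _).symm

variable [Etale t] [Etale t₀]

/-- The transition map `t₀! ℤ → t_! ℤ`. -/
def gMap : ZZ t₀ ⟶ ZZ t :=
  ((EtSupp.extPullAdj t₀).homEquiv _ _).symm ((EtCore.pullConst f ℤ).inv ≫
    (EtCoh.pull f).map ((EtSupp.extPullAdj t).unit.app (EtCoh.const B ℤ)) ≫
      (via f t t₀ w).hom.app (ZZ t))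

theorem homEquiv_gMap_comp {G : EtCoh.Ab X} (b : ZZ t ⟶ G) :
    (EtSupp.extPullAdj t₀).homEquiv _ _ (gMap f t t₀ w ≫ b) =
      (EtCore.pullConst f ℤ).inv ≫ (EtCoh.pull f).map ((EtSupp.extPullAdj t).homEquiv _ _ b) ≫
        (via f t t₀ w).hom.app G := by
  rw [Adjunction.homEquiv_naturality_right, gMap, Equiv.apply_symm_apply, Category.assoc,
    Category.assoc, Adjunction.homEquiv_unit, Functor.map_comp, Category.assoc]
  refine congrArg (fun z => (EtCore.pullConst f ℤ).inv ≫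
    (EtCoh.pull f).map ((EtSupp.extPullAdj t).unit.app (EtCoh.const B ℤ)) ≫ z) ?_
  exact ((via f t t₀ w).hom.naturality b).symm

theorem toE_HpullVia : ∀ (n : ℕ) (F : EtCoh.Ab X) (x : EtCoh.H B ((EtCoh.pull t).obj F) n),
    toE t₀ F n (EtCore.HpullVia f t t₀ w F n x) =
      (Abelian.Ext.mk₀ (gMap f t t₀ w)).comp (toE t F n x) (zero_add n) := by
  intro n
  induction n with
  | zero =>
    intro F x
    obtain ⟨a, rfl⟩ := (Abelian.Ext.mk₀_bijective _ _).2 x
    obtain ⟨b, rfl⟩ := ((EtSupp.extPullAdj t).homEquiv _ _).surjective a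
    refine (congrArg (toE t₀ F 0) ((HpullFunctor.HpullVia_apply f t t₀ w F 0 _).trans
      ((congrArg (fun z => Abelian.Ext.comp z _ (add_zero 0)) (HpullComp.Hpull_mk₀ f _)).trans
        (Abelian.Ext.mk₀_comp_mk₀ _ _)))).trans ?_
    refine (toE_mk₀ t₀ _).trans ?_
    rw [toE_mk₀, Equiv.symm_apply_apply]
    refine Eq.trans ?_ (Abelian.Ext.mk₀_comp_mk₀ _ _).symm
    apply congrArg Abelian.Ext.mk₀
    rw [Equiv.symm_apply_eq, homEquiv_gMap_comp]
    exact Category.assoc _ _ _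
  | succ n ih =>
    intro F x
    obtain ⟨Q, I, i, p, hip, hS, hI, hsurj⟩ := exists_extClass F
    obtain ⟨y, hy⟩ := hsurj _ n (toE t F (n + 1) x)
    obtain ⟨x', rfl⟩ := (toE_bijective t Q n).2 y
    have hx : x = x'.comp (hS.map_of_exact (EtCoh.pull t)).extClass rfl :=
      (toE_bijective t F (n + 1)).1 (hy.symm.trans (toE_extClass t hS n x').symm)
    subst hx
    refine (congrArg (toE t₀ F (n + 1)) (HpullVia_extClass f t t₀ w hS n x')).trans ?_
    refine (toE_extClass t₀ hS n _).trans ?_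
    refine (congrArg (fun z => Abelian.Ext.comp z hS.extClass rfl) (ih Q x')).trans ?_
    refine Eq.trans ?_ (congrArg (fun z => (Abelian.Ext.mk₀ (gMap f t t₀ w)).comp z (zero_add (n + 1))) hy)
    exact Abelian.Ext.comp_assoc _ _ _ (zero_add n) rfl (by omega)

omit [Etale t] [Etale t₀] in
theorem pullConst_via :
    (EtCore.pullConst f ℤ).inv ≫ (EtCoh.pull f).map (EtCore.pullConst t ℤ).inv ≫
      (via f t t₀ w).hom.app (EtCoh.const X ℤ) = (EtCore.pullConst t₀ ℤ).inv := by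
  subst w
  have h := HpullComp.pullConst_comp f t (AddCommGrpCat.of (ULift.{u + 1} ℤ))
  rw [← Category.assoc]
  refine (congrArg (· ≫ _) h.symm).trans ?_
  simp [via, EtCore.pullCongr]

theorem gMap_cMap : gMap f t t₀ w ≫ cMap t = cMap t₀ := by
  apply ((EtSupp.extPullAdj t₀).homEquiv _ _).injective
  rw [homEquiv_gMap_comp, cMap, cMap, Equiv.apply_symm_apply, Equiv.apply_symm_apply]
  exact pullConst_via f t t₀ w

end Groth.Agent.EtMV
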